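import Groth.Agent.H12.CycPush.Local
import Groth.Agent.H81.CycIrred.Geom
import Groth.Agent.Lib.ClSub.Cartier
import Groth.Agent.Lib.TensorMod.TensorInv
import Groth.Agent.Lib.TensorMod.Invertible

/-!
# The direct image of the structure sheaf of the cyclic cover
-/

set_option autoImplicit false
set_option linter.style.haveILetI false
set_option backward.isDefEq.respectTransparency false
universe u
open CategoryTheory CategoryTheory.Limits AlgebraicGeometry TopologicalSpace Opposite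
open Groth.Agent.Lib.TensorMod.Gen Groth.Agent.Lib.TensorMod.Dual Groth.Agent.Lib.TensorMod.HomGlue
open Groth.Agent.Lib.Ample.GenLocus
open Groth.Agent.H95 Groth.Agent.H95.CycCover Groth.Agent.H81.CycIrred

namespace Groth.Agent.H12.CycPush

variable {k : Type u} [Field k] {X Y : Scheme.{u}} [IsIntegral X]
  (f : X ⟶ Spec (CommRingCat.of k)) [Smooth f] {L : X.Modules} {N : ℕ}
  {s : Coh.structureModule X ⟶ CohB1.tensorPow L N} {π : Y ⟶ X} (R : CycCov.Root L N s π)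

omit [Smooth f] in
/-- functions of the base which are not zero are nonzerodivisors on the cover -/
theorem cancel (hL : PicF.IsInvertible L) (hN : 0 < N) (hR : CycCov.IsCover R) {W : X.Opens}
    {E : Γ(X, W)} (hE : E ≠ 0) {z z' : Γ(Y, π ⁻¹ᵁ W)}
    (h : (π.app W).hom E * z = (π.app W).hom E * z') : z = z' := by
  haveI := Geom.isReduced_of_cover R hR
  rw [← sub_eq_zero]
  refine eq_zero_of_basicOpen_eq_bot _ (le_bot_iff.mp fun y hy => ?_)
  exfalso
  haveI : Nonempty (X.basicOpen E) := by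
    obtain ⟨x, hx⟩ := (Opens.ne_bot_iff_nonempty _).1 fun h' => hE (eq_zero_of_basicOpen_eq_bot _ h')
    exact ⟨⟨x, hx⟩⟩
  obtain ⟨y', hy', hyE⟩ := (Geom.dense_preimage R hL hN hR (X.basicOpen E)).inter_open_nonempty _
    (Y.basicOpen (z - z')).2 ⟨y, hy⟩
  have h1 : y' ∈ Y.basicOpen ((π.app W).hom E * (z - z')) := by
    rw [Scheme.basicOpen_mul]
    exact ⟨(Scheme.preimage_basicOpen π E).le hyE, hy'⟩
  rw [mul_sub, sub_eq_zero.mpr h, Scheme.basicOpen_zero] at h1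
  exact h1

omit [IsIntegral X] in
theorem isGen_of_isIso_ofSection {M : X.Modules} {U : X.Opens} (m : Γ(M, U))
    (h : IsIso (Lib.ClSub.Cartier.ofSection (M.restrict U.ι)
      (M.presheaf.map (homOfLE (show U.ι ''ᵁ ⊤ ≤ U from U.ι_image_le _)).op m))) :
    IsGen M U m := by
  intro V hV
  obtain ⟨W, rfl⟩ : ∃ W : (U : Scheme.{u}).Opens, U.ι ''ᵁ W = V :=
    ⟨U.ι ⁻¹ᵁ V, by rw [Scheme.Hom.image_preimage_eq_opensRange_inf, Scheme.Opens.opensRange_ι]
                   exact inf_eq_right.2 hV⟩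
  have key : (fun a : Γ(X, U.ι ''ᵁ W) => a • rs M hV m) =
      fun a => (Lib.ClSub.Cartier.ofSection (M.restrict U.ι)
        (M.presheaf.map (homOfLE (U.ι_image_le ⊤)).op m)).app W a :=
    funext fun a => (Lib.ClSub.Cartier.ofSection_restrict_app M U m W a).symm
  rw [key]
  exact ConcreteCategory.bijective_of_isIso
    ((Lib.ClSub.Cartier.ofSection (M.restrict U.ι)
      (M.presheaf.map (homOfLE (U.ι_image_le ⊤)).op m)).app W)

omit [IsIntegral X] in
theorem idealι_rs (I : X.IdealSheafData) {U V : X.Opens} (h : V ≤ U) (σ : Γ(ClSub.idealMod I, U)) :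
    (ClSub.idealModι I).app V (rs _ h σ) = rf h ((ClSub.idealModι I).app U σ) :=
  (rs_app (ClSub.idealModι I) h σ).symm

/-- The data over one open of the covering. -/
structure Chart {r : ℕ} (D : Fin r → X.IdealSheafData) (α : Fin r → ℕ) (M : Fin N → X.Modules)
    (hM : ∀ i : Fin N, CohB1.tensorMod (CycCov.intPart L D α N i) (M i) ≅ Coh.structureModule X) where
  U : X.affineOpens
  nonempty : Nonempty U.1
  e : Γ(L, U.1)
  he : IsGen L U.1 e
  E : Fin N → Γ(X, U.1)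
  hE0 : ∀ i, E i ≠ 0
  hE : ∀ i : Fin N, (CycCov.floorIdeal D α N i).ideal U = Ideal.span {E i}
  σ : ∀ i : Fin N, Γ(ClSub.idealMod (CycCov.floorIdeal D α N i), U.1)
  hσ : ∀ i : Fin N, (ClSub.idealModι (CycCov.floorIdeal D α N i)).app U.1 (σ i) = E i
  μ : ∀ i : Fin N, Γ(M i, U.1)
  hμ : ∀ i, IsGen (M i) U.1 (μ i)
  hone : ∀ i : Fin N, (hM i).hom.app U.1 (SecTwist.tmul (CycCov.intPart L D α N i) (M i) U.1
    (SecTwist.tmul (CohB1.tensorPow L i) (ClSub.idealMod (CycCov.floorIdeal D α N i)) U.1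
      (CycCov.lpow L U.1 e i) (σ i)) (μ i)) = one X U.1
  ε : Fin N → Γ(Y, π ⁻¹ᵁ U.1)
  hε : ∀ i : Fin N, (π.app U.1).hom (E i) * ε i = R.t U e (Frames.cycIsGen he) ^ (i : ℕ)
  bij : ∀ (W : X.affineOpens) (h : W.1 ≤ U.1), Nonempty W.1 →
    Function.Bijective fun c : Fin N → Γ(X, W.1) =>
      ∑ i, (π.app W.1).hom (c i) * Y.presheaf.map (homOfLE (π.preimage_mono h)).op (ε i)

variable {r : ℕ} (D : Fin r → X.IdealSheafData) (α : Fin r → ℕ) {M : Fin N → X.Modules}
  {hM : ∀ i : Fin N, CohB1.tensorMod (CycCov.intPart L D α N i) (M i) ≅ Coh.structureModule X}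

omit [IsIntegral X] in
theorem res_app {U V : X.Opens} (h : V ≤ U) (b : Γ(X, U)) :
    Y.presheaf.map (homOfLE (π.preimage_mono h)).op ((π.app U).hom b) = (π.app V).hom (rf h b) :=
  (congr($(π.naturality (homOfLE h).op) b)).symm

theorem rf_ne_zero {U V : X.Opens} (h : V ≤ U) (hV : Nonempty V) {b : Γ(X, U)} (hb : b ≠ 0) :
    rf h b ≠ 0 := fun h' => hb (Geom.rf_injective h hV (h'.trans (map_zero _).symm))

include f in
theorem exists_chartData [IsAlgClosed k] (hN : 0 < N) (hNk : (N : k) ≠ 0) (hR : CycCov.IsCover R)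
    (hL : PicF.IsInvertible L) (hD : LogNCD.IsNCD D f)
    (hs : CycCov.IsZeroDiv (CohB1.tensorPow L N) s (CycCov.divIdeal D α))
    (hMi : ∀ i, PicF.IsInvertible (M i)) (x : X) : ∃ C : Chart R D α M hM, x ∈ C.U.1 := by
  classical
  obtain ⟨W₁, e₁, hxW₁, he₁⟩ := isInvertible_iff.mp hL x
  obtain ⟨W₂, hxW₂, hW₂⟩ := exists_chart f D hD x
  choose W₃ μ₁ hxW₃ hμ₁ using fun i => isInvertible_iff.mp (hMi i) x
  let W₄ : X.Opens := ⟨⋂ i, (W₃ i : Set X), isOpen_iInter_of_finite fun i => (W₃ i).2⟩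
  obtain ⟨U₀, hU₀, hxU, hle⟩ := exists_isAffineOpen_mem_and_subset (X := X) (x := x)
    (U := W₁ ⊓ W₂ ⊓ W₄) ⟨⟨hxW₁, hxW₂⟩, Set.mem_iInter.mpr hxW₃⟩
  set U : X.affineOpens := ⟨U₀, hU₀⟩
  haveI hne : Nonempty U.1 := ⟨⟨x, hxU⟩⟩
  have hU2 : U.1 ≤ W₂ := hle.trans (inf_le_left.trans inf_le_right)
  have hU1 : U.1 ≤ W₁ := hle.trans (inf_le_left.trans inf_le_left)
  have hU3 : ∀ i, U.1 ≤ W₃ i := fun i y hy => Set.mem_iInter.mp (hle hy).2 i
  set e := rs L hU1 e₁
  have he : IsGen L U.1 e := he₁.res hU1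
  obtain ⟨a, ha, ha0, hrad⟩ := hW₂ U hU2
  obtain ⟨φ, hφ⟩ := Frames.exists_phi s he
  have hspan := Frames.span_phi s hs U he φ hφ
  rw [Base.divIdeal_ideal] at hspan
  simp only [ha, Ideal.span_singleton_pow, Ideal.prod_span_singleton,
    Ideal.span_singleton_eq_span_singleton] at hspan
  obtain ⟨u₀, hu₀⟩ := hspan
  rw [← hu₀, mul_comm] at hφ
  have hnt : Nontrivial Γ(X, U.1) := inferInstance
  set E : Fin N → Γ(X, U.1) := fun i => ∏ l, a l ^ ((i : ℕ) * α l / N) with hEdef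
  have hE0 : ∀ i, E i ≠ 0 := fun i =>
    Finset.prod_ne_zero_iff.mpr fun l _ => pow_ne_zero _ (ha0 hnt l)
  have hE : ∀ i : Fin N, (CycCov.floorIdeal D α N i).ideal U = Ideal.span {E i} := fun i => by
    rw [CycCov.floorIdeal, Base.divIdeal_ideal]
    simp only [ha, Ideal.span_singleton_pow, Ideal.prod_span_singleton, E]
  choose σ hσ using fun i : Fin N => (Lib.ClSub.Sections.mem_range_idealModι_app_affine_iff
    (CycCov.floorIdeal D α N i) U (E i)).mpr ((hE i).symm ▸ Ideal.mem_span_singleton_self _)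
  have hσgen : ∀ i : Fin N, IsGen (ClSub.idealMod (CycCov.floorIdeal D α N i)) U.1 (σ i) := fun i =>
    isGen_of_isIso_ofSection (σ i) (Lib.ClSub.Cartier.isIso_ofSection_restrict _ U (E i)
      (mem_nonZeroDivisors_of_ne_zero (hE0 i)) (hE i) (σ i) (hσ i))
  have hμ : ∀ i : Fin N, ∃ μ : Γ(M i, U.1), IsGen (M i) U.1 μ ∧
      (hM i).hom.app U.1 (SecTwist.tmul (CycCov.intPart L D α N i) (M i) U.1
        (SecTwist.tmul (CohB1.tensorPow L i) (ClSub.idealMod (CycCov.floorIdeal D α N i)) U.1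
          (CycCov.lpow L U.1 e i) (σ i)) μ) = one X U.1 := by
    intro i
    have hg := isGen_tmul (Frames.isGen_lpow he i) (hσgen i)
    have hμ' := (hμ₁ i).res (hU3 i)
    have hgen := isGen_of_isIso_over (isIso_over_of_iso (hM i) U.1) (isGen_tmul hg hμ')
    obtain ⟨c, hc⟩ := exists_coord hgen (one X U.1)
    have hcu : IsUnit c := isUnit_of_isGen_smul hgen (hc ▸ isGen_one U.1)
    refine ⟨c • rs (M i) (hU3 i) (μ₁ i), IsGen_smul_isUnit hμ' hcu, ?_⟩
    conv_lhs => rw [← one_smul Γ(X, U.1) (SecTwist.tmul (CohB1.tensorPow L i)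
      (ClSub.idealMod (CycCov.floorIdeal D α N i)) U.1 (CycCov.lpow L U.1 e i) (σ i) :
      Γ(CycCov.intPart L D α N i, U.1))]
    rw [tmul_smul, one_mul, Scheme.Modules.Hom.app_smul]
    exact hc.symm
  choose μ hμg hone using hμ
  obtain ⟨ε, hε, -⟩ := local_basis f R hN hNk hR U he a u₀ α hφ (ha0 hnt) hrad
  refine ⟨⟨U, hne, e, he, E, hE0, hE, σ, hσ, μ, hμg, hone, ε, hε, fun W hW hWne => ?_⟩, hxU⟩
  haveI := hWne
  obtain ⟨a', ha', -, hrad'⟩ := hW₂ W (hW.trans hU2)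
  set b : Fin r → Γ(X, W.1) := fun l => rf hW (a l) with hb
  have hassoc : ∀ l, Associated (a' l) (b l) := by
    intro l
    have h1 := (D l).map_ideal (U := W) (V := U) hW
    rw [ha, ha', Ideal.map_span, Set.image_singleton] at h1
    exact Ideal.span_singleton_eq_span_singleton.mp h1.symm
  have hradb : ∀ (S : Finset (Fin r)) (y : Γ(X, W.1)) (n : ℕ),
      (∏ l ∈ S, b l) ∣ y ^ n → (∏ l ∈ S, b l) ∣ y := by
    intro S y n h
    have h2 : Associated (∏ l ∈ S, a' l) (∏ l ∈ S, b l) := Associated.prod S a' b fun l _ => hassoc l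
    exact h2.symm.dvd.trans (hrad' S y n (h2.dvd.trans h))
  have hφW : SecTwist.val s W.1 = ((Units.map (X.presheaf.map (homOfLE hW).op).hom.toMonoidHom u₀ : Γ(X, W.1)ˣ) *
      ∏ l, b l ^ α l : Γ(X, W.1)) • CycCov.lpow L W.1 (rs L hW e) N := by
    rw [Frames.phi_res s hW e _ hφ]
    congr 1
    simp only [map_mul, map_prod, map_pow, b]
    rfl
  obtain ⟨ε', hε', hbij⟩ := local_basis f R hN hNk hR W (he.res hW) b (Units.map (X.presheaf.map (homOfLE hW).op).hom.toMonoidHom u₀)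
    α hφW (fun l => rf_ne_zero hW hWne (ha0 hnt l)) hradb
  have heq : ∀ i, ε' i = Y.presheaf.map (homOfLE (π.preimage_mono hW)).op (ε i) := by
    intro i
    refine cancel R hL hN hR (rf_ne_zero hW hWne (hE0 i)) ?_
    rw [← res_app hW (E i), ← map_mul, hε i, map_pow, res_app hW (E i)]
    have h3 := hε' i
    simp only [b, ← map_pow, ← map_prod] at h3
    refine h3.trans ?_
    congr 1
    exact (R.t_res U W hW e (Frames.cycIsGen he) (Frames.cycIsGen (he.res hW))).symm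
  simp only [heq] at hbij
  exact hbij

omit [Smooth f] in
/-- the images of the generators are compatible -/
theorem compat (hL : PicF.IsInvertible L) (hN : 0 < N) (hR : CycCov.IsCover R)
    (C C' : Chart R D α M hM) (i : Fin N) (W : X.affineOpens) (h : W.1 ≤ C.U.1) (h' : W.1 ≤ C'.U.1)
    (hW : Nonempty W.1) (c : Γ(X, W.1))
    (hc : rs (M i) h (C.μ i) = c • rs (M i) h' (C'.μ i)) :
    Y.presheaf.map (homOfLE (π.preimage_mono h)).op (C.ε i) =
      (π.app W.1).hom c * Y.presheaf.map (homOfLE (π.preimage_mono h')).op (C'.ε i) := by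
  set I := CycCov.floorIdeal D α N i
  have hea : IsGen L W.1 (rs L h C.e) := C.he.res h
  have heb : IsGen L W.1 (rs L h' C'.e) := C'.he.res h'
  obtain ⟨β, hβ⟩ := exists_coord heb (rs L h C.e)
  have h1 := I.map_ideal (U := W) (V := C.U) h
  have h2 := I.map_ideal (U := W) (V := C'.U) h'
  rw [C.hE i, Ideal.map_span, Set.image_singleton] at h1
  rw [C'.hE i, Ideal.map_span, Set.image_singleton, ← h1] at h2
  obtain ⟨γ, hγ⟩ := (Ideal.span_singleton_eq_span_singleton.mp h2 :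
    Associated (rf h' (C'.E i)) (rf h (C.E i)))
  have hσ : rs _ h (C.σ i) = (γ : Γ(X, W.1)) • rs _ h' (C'.σ i) := by
    refine Lib.ClSub.Sections.idealModι_app_injective I W.1 ?_
    rw [Scheme.Modules.Hom.app_smul, idealι_rs, idealι_rs, C.hσ, C'.hσ, ← hγ]
    exact mul_comm (rf h' (C'.E i)) (γ : Γ(X, W.1))
  -- the pairing
  have p : rs _ h ((hM i).hom.app C.U.1 (SecTwist.tmul (CycCov.intPart L D α N i) (M i) C.U.1
      (SecTwist.tmul (CohB1.tensorPow L i) (ClSub.idealMod I) C.U.1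
        (CycCov.lpow L C.U.1 C.e i) (C.σ i)) (C.μ i))) =
      ((β ^ (i : ℕ) * γ) * c) • rs _ h' ((hM i).hom.app C'.U.1
        (SecTwist.tmul (CycCov.intPart L D α N i) (M i) C'.U.1
          (SecTwist.tmul (CohB1.tensorPow L i) (ClSub.idealMod I) C'.U.1
            (CycCov.lpow L C'.U.1 C'.e i) (C'.σ i)) (C'.μ i))) := by
    rw [rs_app, rs_app, rs_tmul, rs_tmul, ← Scheme.Modules.Hom.app_smul, hc]
    congr 1
    have q : rs (CycCov.intPart L D α N i) h (SecTwist.tmul (CohB1.tensorPow L i) (ClSub.idealMod I)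
        C.U.1 (CycCov.lpow L C.U.1 C.e i) (C.σ i)) =
        (β ^ (i : ℕ) * γ) • rs (CycCov.intPart L D α N i) h' (SecTwist.tmul (CohB1.tensorPow L i)
          (ClSub.idealMod I) C'.U.1 (CycCov.lpow L C'.U.1 C'.e i) (C'.σ i)) := by
      erw [rs_tmul, rs_tmul, Frames.rs_lpow, Frames.rs_lpow, hβ, Geom.lpow_smul, hσ, tmul_smul]
    rw [q]
    exact tmul_smul _ _ _ _
  rw [C.hone, C'.hone] at p
  have hone' : ∀ {U : X.Opens} (hh : W.1 ≤ U), rs (Coh.structureModule X) hh (one X U) = one X W.1 :=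
    fun hh => map_one (X.presheaf.map (homOfLE hh).op).hom
  rw [hone', hone'] at p
  have hu : (β ^ (i : ℕ) * γ) * c = 1 :=
    (Geom.coord_unique (isGen_one W.1) (p.symm.trans (one_smul _ _).symm))
  refine cancel R hL hN hR (rf_ne_zero h hW (C.hE0 i)) ?_
  have ta := R.t_res C.U W h C.e (Frames.cycIsGen C.he) (Frames.cycIsGen hea)
  have tb := R.t_res C'.U W h' C'.e (Frames.cycIsGen C'.he) (Frames.cycIsGen heb)
  have tab : R.t W (rs L h C.e) (Frames.cycIsGen hea) * (π.app W.1).hom β =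
      R.t W (rs L h' C'.e) (Frames.cycIsGen heb) := by
    have hb' : CycCov.IsGen L W.1 (β • rs L h' C'.e) := Frames.cycIsGen (hβ ▸ hea)
    have h5 := R.t_smul W (rs L h' C'.e) (Frames.cycIsGen heb) β hb'
    have h6 : ∀ (e' : Γ(L, W.1)) (he' : CycCov.IsGen L W.1 e'), e' = β • rs L h' C'.e →
        R.t W e' he' = R.t W (β • rs L h' C'.e) hb' := by rintro _ _ rfl; rfl
    rw [h6 _ _ hβ]
    exact h5
  have e1 : (π.app W.1).hom (rf h (C.E i)) * Y.presheaf.map (homOfLE (π.preimage_mono h)).op (C.ε i) =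
      R.t W (rs L h C.e) (Frames.cycIsGen hea) ^ (i : ℕ) := by
    rw [← res_app, ← map_mul, C.hε, map_pow]
    exact congrArg (· ^ (i : ℕ)) ta
  have e2 : (π.app W.1).hom (rf h' (C'.E i)) * Y.presheaf.map (homOfLE (π.preimage_mono h')).op (C'.ε i) =
      R.t W (rs L h' C'.e) (Frames.cycIsGen heb) ^ (i : ℕ) := by
    rw [← res_app, ← map_mul, C'.hε, map_pow]
    exact congrArg (· ^ (i : ℕ)) tb
  rw [e1, ← hγ, map_mul]
  have h7 := congrArg (π.app W.1).hom hu
  simp only [map_mul, map_pow, map_one] at h7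
  rw [← tab, mul_pow] at e2
  linear_combination (-(R.t W (rs L h C.e) (Frames.cycIsGen hea) ^ (i : ℕ))) * h7 -
    ((π.app W.1).hom (γ : Γ(X, W.1)) * (π.app W.1).hom c) * e2

omit [IsIntegral X] in
theorem pushforward_smul {W : X.Opens} (b : Γ(X, W))
    (z : Γ((Scheme.Modules.pushforward π).obj (Coh.structureModule Y), W)) :
    (show Γ(Y, π ⁻¹ᵁ W) from b • z) = (π.app W).hom b * (show Γ(Y, π ⁻¹ᵁ W) from z) := rfl

include f in
theorem exists_hom [IsAlgClosed k] (hN : 0 < N) (hR : CycCov.IsCover R) (hL : PicF.IsInvertible L)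
    {κ : Type*} (C : κ → Chart R D α M hM) (hC : (⨆ a, (C a).U.1) = ⊤) (i : Fin N) :
    ∃ c : M i ⟶ (Scheme.Modules.pushforward π).obj (Coh.structureModule Y),
      ∀ a, (show Γ(Y, π ⁻¹ᵁ (C a).U.1) from c.app (C a).U.1 ((C a).μ i)) = (C a).ε i := by
  refine exists_hom_of_gen hC (fun a => (C a).μ i) (fun a => (C a).hμ i)
    (fun a => (show Γ((Scheme.Modules.pushforward π).obj (Coh.structureModule Y), (C a).U.1) from (C a).ε i))
    fun a b W ha hb c hc => ?_
  refine sections_ext_cover (fun W' : {W' : X.affineOpens // W'.1 ≤ W} => W'.1.1)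
    ((Scheme.Modules.pushforward π).obj (Coh.structureModule Y)) (V := W) (fun x hx => ?_) fun W' => ?_
  · obtain ⟨W', hW', hxW'⟩ := Lib.ClSub.Basis.exists_affine_le hx
    exact Opens.mem_iSup.mpr ⟨⟨W', hW'⟩, hxW'⟩
  · set Z : X.affineOpens := ⟨W ⊓ W'.1.1, by rw [inf_eq_right.mpr W'.2]; exact W'.1.2⟩ with hZ
    change rs _ (inf_le_left : Z.1 ≤ W) _ = rs _ (inf_le_left : Z.1 ≤ W) _
    rw [rs_smul, rs_rs, rs_rs]
    rcases isEmpty_or_nonempty Z.1 with he | hne
    · haveI : Subsingleton Γ(Y, π ⁻¹ᵁ Z.1) := by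
        have : π ⁻¹ᵁ Z.1 = ⊥ := Opens.ext (Set.eq_empty_of_forall_notMem fun y hy => he.false ⟨π y, hy⟩)
        rw [this]; infer_instance
      exact @Subsingleton.elim Γ(Y, π ⁻¹ᵁ Z.1) _ _ _
    · have hcZ : rs (M i) ((inf_le_left : Z.1 ≤ W).trans ha) ((C a).μ i) =
          rf (inf_le_left : Z.1 ≤ W) c • rs (M i) ((inf_le_left : Z.1 ≤ W).trans hb) ((C b).μ i) := by
        rw [← rs_rs _ ha inf_le_left, hc, rs_smul, rs_rs]
      exact compat R D α hL hN hR (C a) (C b) i Z _ _ hne _ hcZ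

omit [IsIntegral X] in
theorem sum_ι_app (W : X.Opens) (m : Γ(∐ M, W)) :
    ∃ b : ∀ i, Γ(M i, W), m = ∑ i, (Sigma.ι M i).app W (b i) := by
  classical
  let p : ∀ i, (∐ M) ⟶ M i := fun i =>
    Sigma.desc fun j => if e : j = i then eqToHom (congrArg M e) else 0
  have hid : ∑ i, p i ≫ Sigma.ι M i = 𝟙 (∐ M) := by
    refine Sigma.hom_ext _ _ fun j => ?_
    rw [Preadditive.comp_sum, Finset.sum_eq_single j]
    · simp [p]
    · intro i _ hi
      simp [p, Ne.symm hi]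
    · simp
  exact ⟨fun i => (p i).app W m, (congrArg (fun t : (∐ M) ⟶ ∐ M => t.app W m) hid).symm.trans
    (Lib.TensorMod.LocIso.sum_app _ _ m)⟩

include f in
/-- The direct image is the coproduct. -/
theorem exists_isColimit [IsAlgClosed k] (hN : 0 < N) (hNk : (N : k) ≠ 0) (hR : CycCov.IsCover R)
    (hL : PicF.IsInvertible L) (hD : LogNCD.IsNCD D f)
    (hs : CycCov.IsZeroDiv (CohB1.tensorPow L N) s (CycCov.divIdeal D α))
    (hM : ∀ i : Fin N, CohB1.tensorMod (CycCov.intPart L D α N i) (M i) ≅ Coh.structureModule X) :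
    ∃ c : ∀ i : Fin N, M i ⟶ (Scheme.Modules.pushforward π).obj (Coh.structureModule Y),
      Nonempty (IsColimit (Cofan.mk ((Scheme.Modules.pushforward π).obj (Coh.structureModule Y)) c)) := by
  classical
  have hMi : ∀ i, PicF.IsInvertible (M i) := fun i =>
    Lib.TensorMod.TensorInv.isInvertible_of_tensor_iso
      (Lib.TensorMod.Basic.comm (M i) (CycCov.intPart L D α N i) ≪≫ hM i)
  choose C hxC using exists_chartData (hM := hM) f R D α hN hNk hR hL hD hs hMi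
  have hC : (⨆ x, (C x).U.1) = ⊤ :=
    top_le_iff.mp fun x _ => Opens.mem_iSup.mpr ⟨x, hxC x⟩
  choose c hc using exists_hom (k := k) f R D α hN hR hL C hC
  refine ⟨c, ?_⟩
  set Φ := Sigma.desc c with hΦ
  have hcomp : ∀ (x : X) (W : X.affineOpens) (h : W.1 ≤ (C x).U.1), Nonempty W.1 →
      Function.Bijective (Φ.app W.1) := by
    intro x W h hW
    have hεW : ∀ (i : Fin N) (b : Γ(X, W.1)),
        (show Γ(Y, π ⁻¹ᵁ W.1) from Φ.app W.1 ((Sigma.ι M i).app W.1 (b • rs (M i) h ((C x).μ i)))) =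
          (π.app W.1).hom b * Y.presheaf.map (homOfLE (π.preimage_mono h)).op ((C x).ε i) := by
      intro i b
      have h1 : Φ.app W.1 ((Sigma.ι M i).app W.1 (b • rs (M i) h ((C x).μ i))) =
          (c i).app W.1 (b • rs (M i) h ((C x).μ i)) :=
        congrArg (fun t : M i ⟶ _ => t.app W.1 (b • rs (M i) h ((C x).μ i))) (Sigma.ι_desc c i)
      rw [h1, Scheme.Modules.Hom.app_smul, ← rs_app]
      exact congrArg (fun z : Γ(Y, π ⁻¹ᵁ (C x).U.1) => (π.app W.1).hom b *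
        Y.presheaf.map (homOfLE (π.preimage_mono h)).op z) (hc i x)
    have hdec : ∀ m : Γ(∐ M, W.1), ∃ b : Fin N → Γ(X, W.1),
        m = ∑ i, (Sigma.ι M i).app W.1 (b i • rs (M i) h ((C x).μ i)) ∧
          (show Γ(Y, π ⁻¹ᵁ W.1) from Φ.app W.1 m) =
            ∑ i, (π.app W.1).hom (b i) * Y.presheaf.map (homOfLE (π.preimage_mono h)).op ((C x).ε i) := by
      intro m
      obtain ⟨p, hp⟩ := sum_ι_app W.1 m
      choose b hb using fun i => exists_coord (((C x).hμ i).res h) (p i)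
      have hm : m = ∑ i, (Sigma.ι M i).app W.1 (b i • rs (M i) h ((C x).μ i)) :=
        hp.trans (Finset.sum_congr rfl fun i _ => by rw [hb i])
      refine ⟨b, hm, ?_⟩
      rw [hm]
      exact (map_sum (Φ.app W.1).hom _ _).trans (Finset.sum_congr rfl fun i _ => hεW i (b i))
    refine ⟨fun m m' hmm => ?_, fun z => ?_⟩
    · obtain ⟨b, hm, hb⟩ := hdec m
      obtain ⟨b', hm', hb'⟩ := hdec m'
      have hbb : b = b' := ((C x).bij W h hW).1 (hb.symm.trans (hmm.trans hb'))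
      rw [hm, hm', hbb]
    · obtain ⟨b, hb⟩ := ((C x).bij W h hW).2 (show Γ(Y, π ⁻¹ᵁ W.1) from z)
      refine ⟨∑ i, (Sigma.ι M i).app W.1 (b i • rs (M i) h ((C x).μ i)), ?_⟩
      exact ((map_sum (Φ.app W.1).hom _ _).trans (Finset.sum_congr rfl fun i _ => hεW i (b i))).trans hb
  have hnhd : ∀ (x : X) (U : X.Opens), x ∈ U → ∃ V ≤ U, x ∈ V ∧ Function.Bijective (Φ.app V) := by
    intro x U hx
    obtain ⟨W, hW, hxW⟩ := Lib.ClSub.Basis.exists_affine_le (U := U ⊓ (C x).U.1) ⟨hx, hxC x⟩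
    exact ⟨W.1, hW.trans inf_le_left, hxW, hcomp x W (hW.trans inf_le_right) ⟨⟨x, hxW⟩⟩⟩
  haveI : Mono Φ := by
    rw [Lib.Modules.Stalk.mono_iff_stalk_injective]
    refine fun x => Lib.ClSub.Basis.stalk_injective_of_basis Φ x fun U hx => ?_
    obtain ⟨V, h1, h2, h3⟩ := hnhd x U hx
    exact ⟨V, h1, h2, h3.1⟩
  haveI : Epi Φ := by
    rw [Lib.Modules.Stalk.epi_iff_stalk_surjective]
    refine fun x => Lib.ClSub.Basis.stalk_surjective_of_basis Φ x fun U hx => ?_
    obtain ⟨V, h1, h2, h3⟩ := hnhd x U hx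
    exact ⟨V, h1, h2, h3.2⟩
  haveI : IsIso Φ := isIso_of_mono_of_epi Φ
  exact ⟨@Cofan.isColimitOfIsIsoSigmaDesc _ _ _ _ _ (Cofan.mk _ c) ‹IsIso Φ›⟩

end Groth.Agent.H12.CycPush
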