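import Groth.Agent.H95.CycAlg.Cover

/-!
# A basis of the normal cyclic cover over a divisor with several components

The eigen-component argument is that of `Groth.Agent.H95.CycAlg.Cover.exists_coord_of_isIntegral`.
-/

set_option autoImplicit false
set_option linter.style.haveILetI false
universe u

namespace Groth.Agent.H12.CycPush

open Polynomial Groth.Agent.H95.CycAlg.Cover

variable {B : Type u} [CommRing B] [IsDomain B] [IsIntegrallyClosed B]
  {B' : Type u} [CommRing B'] [Algebra B B'] {g : B} [IsLocalization.Away g B'] {N : ℕ} (φ : B)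

local notation "P'" => (X ^ N - C (algebraMap B B' φ) : B'[X])
local notation "C'" => AdjoinRoot P'
local notation "ρ" => AdjoinRoot.root P'

omit [IsDomain B] [IsIntegrallyClosed B] in
theorem injective_C (hN : 0 < N) : Function.Injective (algebraMap B' C') := by
  refine (injective_iff_map_eq_zero (algebraMap B' C')).2 fun a ha => ?_
  have := congrFun (coord_eq_zero hN (algebraMap B B' φ) (fun j => if (j : ℕ) = 0 then a else 0) (by
    rw [Finset.sum_eq_single (⟨0, hN⟩ : Fin N)]
    · simpa using ha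
    · intro b _ hb
      have : (b : ℕ) ≠ 0 := fun h => hb (Fin.ext h)
      simp [this]
    · simp)) ⟨0, hN⟩
  simpa using this

omit [IsIntegrallyClosed B] in
/-- The eigen components of an integral element are integral. -/
theorem isIntegral_component {ζ : B} (hζ : IsPrimitiveRoot ζ N)
    (hNu : IsUnit (N : B)) (c : Fin N → B')
    (hx : IsIntegral B (∑ j, algebraMap B' C' (c j) * ρ ^ (j : ℕ))) (j : Fin N) :
    IsIntegral B (algebraMap B' C' (c j) * ρ ^ (j : ℕ)) := by
  classical
  choose σ hσ using exists_twist (B' := B') φ hζ.pow_eq_one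
  set w := algebraMap B' C' (c j) * ρ ^ (j : ℕ) with hw
  have hsum : ∀ i : Fin N, (∑ l ∈ Finset.range N, ζ ^ (l * (N - (j : ℕ))) * (ζ ^ l) ^ (i : ℕ))
      = if i = j then (N : B) else 0 := by
    intro i
    have hrw : ∀ l, ζ ^ (l * (N - (j : ℕ))) * (ζ ^ l) ^ (i : ℕ) =
        (ζ ^ (N - (j : ℕ) + i)) ^ l := fun l => by
      rw [← pow_mul, ← pow_mul, ← pow_add]; congr 1; ring
    simp only [hrw]
    have hj := j.isLt
    have hi := i.isLt
    split_ifs with hij
    · subst hij
      rw [Nat.sub_add_cancel hi.le, hζ.pow_eq_one]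
      simp
    · have hne : ζ ^ (N - (j : ℕ) + i) ≠ 1 := fun h => by
        rw [hζ.pow_eq_one_iff_dvd] at h
        obtain ⟨c, hc⟩ := h
        have hne' : (i : ℕ) ≠ (j : ℕ) := fun h => hij (Fin.ext h)
        rcases c with _ | _ | c
        · omega
        · omega
        · have : N * 2 ≤ N * (c + 1 + 1) := Nat.mul_le_mul_left _ (by omega)
          omega
      have hg := geom_sum_mul (ζ ^ (N - (j : ℕ) + i)) N
      rw [← pow_mul ζ, mul_comm, mul_comm _ N, pow_mul, hζ.pow_eq_one, one_pow, sub_self,
        mul_eq_zero] at hg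
      exact hg.resolve_left (sub_ne_zero.mpr hne)
  have hS : ∑ l ∈ Finset.range N, algebraMap B C' (ζ ^ (l * (N - (j : ℕ)))) *
      σ l (∑ i, algebraMap B' C' (c i) * ρ ^ (i : ℕ)) = algebraMap B C' (N : B) * w := by
    simp only [map_sum, map_mul, AlgHom.commutes, map_pow (σ _), hσ, mul_pow, Finset.mul_sum]
    rw [Finset.sum_comm, Finset.sum_eq_single j]
    · rw [hw, ← (show _ = (N : B) from (hsum j).trans (if_pos rfl)), map_sum, Finset.sum_mul]
      exact Finset.sum_congr rfl fun l _ => by simp only [map_mul, map_pow]; ring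
    · intro i _ hij
      calc ∑ l ∈ Finset.range N, algebraMap B C' (ζ ^ (l * (N - (j : ℕ)))) *
            (algebraMap B' C' (c i) * ((algebraMap B C' (ζ ^ l)) ^ (i : ℕ) * ρ ^ (i : ℕ)))
          = algebraMap B C' (∑ l ∈ Finset.range N, ζ ^ (l * (N - (j : ℕ))) * (ζ ^ l) ^ (i : ℕ)) *
              (algebraMap B' C' (c i) * ρ ^ (i : ℕ)) := by
            rw [map_sum, Finset.sum_mul]
            exact Finset.sum_congr rfl fun l _ => by simp only [map_mul, map_pow]; ring
        _ = 0 := by rw [hsum, if_neg hij, map_zero, zero_mul]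
    · simp
  obtain ⟨e, he⟩ := hNu.exists_left_inv
  have h1 : w = algebraMap B C' e * (algebraMap B C' (N : B) * w) := by
    rw [← mul_assoc, ← map_mul, he, map_one, one_mul]
  rw [h1, ← hS]
  exact isIntegral_algebraMap.mul ((integralClosure B C').sum_mem fun l _ =>
    isIntegral_algebraMap.mul (hx.map ((σ l).restrictScalars B)))

variable {A : Type u} [CommRing A] [Algebra B A] [Module.Finite B A]

/-- The normal cover of `B` defined by `t^N = u ∏ a_j^{α_j}` has the basis `t^i / ∏ a_j^{⌊iα_j/N⌋}`. -/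
theorem exists_basis {ι₀ : Type*} [Fintype ι₀] (a : ι₀ → B) (u₀ : Bˣ) (α : ι₀ → ℕ)
    (hφ : φ = (u₀ : B) * ∏ l, a l ^ α l) (hg : g ≠ 0) (ha : ∀ l, a l ∣ g) (hN : 0 < N)
    {ζ : B} (hζ : IsPrimitiveRoot ζ N) (hNu : IsUnit (N : B))
    (hred : ∀ (S : Finset ι₀) (x : B) (n : ℕ), (∏ l ∈ S, a l) ∣ x ^ n → (∏ l ∈ S, a l) ∣ x)
    (hnorm : ∀ (Q : Ideal A) [Q.IsMaximal], IsDomain (Localization.AtPrime Q) ∧
      IsIntegrallyClosed (Localization.AtPrime Q))
    (t : A) (ι : A →ₐ[B] C') (hι : Function.Injective ι) (hιt : ι t = ρ) :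
    ∃ ε : Fin N → A,
      (∀ i : Fin N, algebraMap B A (∏ l, a l ^ ((i : ℕ) * α l / N)) * ε i = t ^ (i : ℕ)) ∧
      Function.Bijective fun c : Fin N → B => ∑ i, algebraMap B A (c i) * ε i := by
  classical
  have hinjB : Function.Injective (algebraMap B B') := inj_away hg
  have hgu : IsUnit (algebraMap B B' g) := IsLocalization.Away.algebraMap_isUnit g
  have hau : ∀ l, IsUnit (algebraMap B B' (a l)) := fun l =>
    isUnit_of_dvd_unit (map_dvd _ (ha l)) hgu
  set E : Fin N → B := fun i => ∏ l, a l ^ ((i : ℕ) * α l / N) with hE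
  have hEu : ∀ i, IsUnit (algebraMap B B' (E i)) := fun i => by
    simp only [E, map_prod, map_pow]
    exact IsUnit.prod_univ_iff.mpr fun l => (hau l).pow _
  choose w hw using fun i => (hEu i).exists_right_inv
  have hρN : ρ ^ N = algebraMap B C' φ := by
    rw [root_pow, ← IsScalarTower.algebraMap_apply B B' C']
  have hEu' : ∀ i, IsUnit (algebraMap B C' (E i)) := fun i => by
    rw [IsScalarTower.algebraMap_apply B B' C']
    exact (hEu i).map _
  have hpow : ∀ i : Fin N, φ ^ (i : ℕ) =
      E i ^ N * ((u₀ : B) ^ (i : ℕ) * ∏ l, a l ^ ((i : ℕ) * α l % N)) := by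
    intro i
    simp only [E]
    rw [hφ, mul_pow, ← Finset.prod_pow, ← Finset.prod_pow, mul_left_comm, ← Finset.prod_mul_distrib]
    congr 1
    refine Finset.prod_congr rfl fun l _ => ?_
    rw [← pow_mul, ← pow_mul, ← pow_add]
    congr 1
    rw [mul_comm (_ / N) N, Nat.div_add_mod, mul_comm]
  -- the elements
  have he : ∀ i, ∃ ε : A, algebraMap B A (E i) * ε = t ^ (i : ℕ) := by
    intro i
    obtain ⟨ε, hε⟩ : algebraMap B A (E i) ∣ t ^ (i : ℕ) := by
      refine dvd_of_pow_dvd_pow hnorm _ _ (fun x hx => hι ((hEu' i).mul_left_cancel ?_)) hN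
        ⟨algebraMap B A ((u₀ : B) ^ (i : ℕ) * ∏ l, a l ^ ((i : ℕ) * α l % N)), hι ?_⟩
      · rw [← ι.commutes, ← map_mul, hx, map_zero, mul_zero]
      · rw [map_pow, map_pow, hιt, ← pow_mul, mul_comm (i : ℕ), pow_mul, hρN, ← map_pow, ← map_pow,
          ← map_mul, AlgHom.commutes, ← hpow]
    exact ⟨ε, hε.symm⟩
  choose ε hε using he
  have hιε : ∀ i, ι (ε i) = algebraMap B' C' (w i) * ρ ^ (i : ℕ) := by
    intro i
    refine (hEu' i).mul_left_cancel ?_
    rw [← ι.commutes, ← map_mul, hε, map_pow, hιt, ι.commutes, ← mul_assoc,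
      IsScalarTower.algebraMap_apply B B' C', ← map_mul, hw, map_one, one_mul]
  refine ⟨ε, hε, fun c c' h => ?_, fun x => ?_⟩
  · have h7 := congrArg ι h
    simp only [map_sum, map_mul, AlgHom.commutes, hιε] at h7
    have h8 := coord_eq_zero hN (algebraMap B B' φ)
      (fun i => algebraMap B B' (c i - c' i) * w i) (by
        rw [← sub_eq_zero.mpr h7, ← Finset.sum_sub_distrib]
        refine Finset.sum_congr rfl fun i _ => ?_
        rw [map_mul, ← IsScalarTower.algebraMap_apply B B' C', map_sub]
        ring)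
    funext i
    have h9 : algebraMap B B' (c i - c' i) * w i = 0 := congrFun h8 i
    refine sub_eq_zero.mp (hinjB ?_)
    rw [map_zero]
    calc algebraMap B B' (c i - c' i) = algebraMap B B' (c i - c' i) * (algebraMap B B' (E i) * w i) := by
          rw [hw, mul_one]
      _ = 0 := by rw [mul_left_comm, h9, mul_zero]
  · obtain ⟨c, hc⟩ := exists_coord hN _ (ι x)
    have hint := fun j => isIntegral_component φ hζ hNu c
      (hc ▸ (IsIntegral.of_finite B x).map ι) j
    have hy : ∀ i, ∃ b : B, algebraMap B B' b = c i * algebraMap B B' (E i) := by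
      intro i
      set y := c i * algebraMap B B' (E i) with hy
      set R := ∏ l, a l ^ ((i : ℕ) * α l % N) with hR
      set S := Finset.univ.filter fun l => 0 < (i : ℕ) * α l % N with hS
      set P := ∏ l ∈ S, a l with hP
      obtain ⟨Q, hQ⟩ : R ∣ P ^ (N - 1) := by
        rw [hR, hP, ← Finset.prod_pow, ← Finset.prod_subset (Finset.subset_univ S) (fun l _ hl => by
          rw [show (i : ℕ) * α l % N = 0 by simpa [S] using hl, pow_zero])]
        exact Finset.prod_dvd_prod_of_dvd _ _ fun l _ => pow_dvd_pow _ (by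
          have := Nat.mod_lt ((i : ℕ) * α l) hN
          omega)
      have h1 : IsIntegral B (c i ^ N * algebraMap B B' (φ ^ (i : ℕ))) := by
        refine (isIntegral_algHom_iff (IsScalarTower.toAlgHom B B' C') (injective_C φ hN)).mp ?_
        have h2 : IsScalarTower.toAlgHom B B' C' (c i ^ N * algebraMap B B' (φ ^ (i : ℕ))) =
            (algebraMap B' C' (c i) * ρ ^ (i : ℕ)) ^ N := by
          rw [IsScalarTower.coe_toAlgHom', map_mul, map_pow, map_pow, map_pow, mul_pow, ← pow_mul,
            mul_comm (i : ℕ) N, pow_mul, root_pow]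
        rw [h2]
        exact (hint i).pow N
      obtain ⟨b₀, hb₀⟩ := exists_of_isIntegral hg _ h1
      set b₁ := ((u₀⁻¹ : Bˣ) : B) ^ (i : ℕ) * b₀ with hb₁
      have h3 : algebraMap B B' b₁ = y ^ N * algebraMap B B' R := by
        rw [hb₁, map_mul, hb₀, hpow, hy, mul_pow, map_mul, map_mul, map_pow, map_pow, map_pow]
        have h4 : algebraMap B B' ((u₀⁻¹ : Bˣ) : B) ^ (i : ℕ) * algebraMap B B' (u₀ : B) ^ (i : ℕ) = 1 := by
          rw [← mul_pow, ← map_mul, Units.inv_mul, map_one, one_pow]
        linear_combination (c i ^ N * algebraMap B B' (E i) ^ N * algebraMap B B' R) * h4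
      have h5 : IsIntegral B ((y * algebraMap B B' P) ^ N) := by
        have : (y * algebraMap B B' P) ^ N = algebraMap B B' (P * Q * b₁) := by
          rw [map_mul, h3, mul_pow, map_mul, show N = N - 1 + 1 by omega, pow_succ (algebraMap B B' P),
            ← map_pow (algebraMap B B') P, hQ, map_mul, ← show N = N - 1 + 1 by omega]
          ring
        rw [this]
        exact isIntegral_algebraMap
      obtain ⟨b', hb'⟩ := exists_of_isIntegral hg _ (h5.of_pow hN)
      have h6 : P ∣ b' ^ N := by
        refine ⟨Q * b₁, hinjB ?_⟩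
        rw [map_pow, hb', map_mul, map_mul, h3, mul_pow, show N = N - 1 + 1 by omega,
          pow_succ (algebraMap B B' P), ← map_pow (algebraMap B B') P, hQ, map_mul,
          ← show N = N - 1 + 1 by omega]
        ring
      obtain ⟨b, hb⟩ := hred S b' N h6
      refine ⟨b, ?_⟩
      have hPu : IsUnit (algebraMap B B' P) := by
        rw [hP, map_prod]
        exact IsUnit.prod_iff.mpr fun l _ => hau l
      refine hPu.mul_right_cancel ?_
      rw [← map_mul, mul_comm, ← hb, hb', hy]
    choose b hb using hy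
    refine ⟨b, hι ?_⟩
    simp only [map_sum, map_mul, AlgHom.commutes, hιε, hc]
    refine Finset.sum_congr rfl fun i _ => ?_
    rw [IsScalarTower.algebraMap_apply B B' C', hb, map_mul, ← mul_assoc, mul_assoc (algebraMap B' C' (c i)),
      ← map_mul, hw, map_one, mul_one]

end Groth.Agent.H12.CycPush
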