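import Groth.Agent.H12.CycNCD.Loc
import Groth.Agent.H12.CycPush.Alg
import Mathlib.RingTheory.Flat.EquationalCriterion
import Mathlib.RingTheory.Flat.TorsionFree

/-!
# The normalised cyclic cover over an affine open of a normal crossing chart
-/

set_option autoImplicit false
set_option linter.style.haveILetI false
universe u
open CategoryTheory AlgebraicGeometry TopologicalSpace Opposite
open Groth.Agent.Lib.TensorMod.Gen Groth.Agent.Lib.TensorMod.Dual
open Groth.Agent.H95 Groth.Agent.H95.CycCover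

namespace Groth.Agent.H12.CycPush

section Radical

variable {k σ B : Type u} [Field k] [CommRing B]

theorem flat_of_etale [Finite σ] (ψ : MvPolynomial σ k →+* B) (hψ : ψ.Etale) :
    letI := ψ.toAlgebra
    Module.Flat (MvPolynomial σ k) B :=
  (RingHom.Etale.iff_flat_and_formallyUnramified.mp hψ).1

theorem ne_zero_of_etale [Finite σ] [Nontrivial B] (ψ : MvPolynomial σ k →+* B) (hψ : ψ.Etale) (e : σ) :
    ψ (MvPolynomial.X e) ≠ 0 := by
  letI := ψ.toAlgebra
  haveI := flat_of_etale ψ hψ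
  intro h
  have hr := Module.Flat.isSMulRegular_of_nonZeroDivisors (R := MvPolynomial σ k) (M := B)
    (r := MvPolynomial.X e) (mem_nonZeroDivisors_of_ne_zero (MvPolynomial.X_ne_zero e))
  exact one_ne_zero (hr (show (MvPolynomial.X e : MvPolynomial σ k) • (1 : B) =
    (MvPolynomial.X e : MvPolynomial σ k) • (0 : B) by
      rw [smul_zero, Algebra.smul_def, RingHom.algebraMap_toAlgebra, h, zero_mul]))

/-- two coordinates of an étale chart form a regular sequence -/
theorem dvd_of_dvd_mul_of_etale [Finite σ] (ψ : MvPolynomial σ k →+* B) (hψ : ψ.Etale) {e e' : σ}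
    (hne : e ≠ e') {y : B} (h : ψ (MvPolynomial.X e) ∣ ψ (MvPolynomial.X e') * y) :
    ψ (MvPolynomial.X e) ∣ y := by
  classical
  letI := ψ.toAlgebra
  haveI := flat_of_etale ψ hψ
  obtain ⟨y', hy'⟩ := h
  obtain ⟨n, p, z, hp, hp'⟩ := Module.Flat.isTrivialRelation_of_sum_smul_eq_zero (R := MvPolynomial σ k)
    (f := ![MvPolynomial.X e', -MvPolynomial.X e]) (x := ![y, y']) (by
      simp only [Fin.sum_univ_two, Matrix.cons_val_zero, Matrix.cons_val_one, Algebra.smul_def,
        map_neg, RingHom.algebraMap_toAlgebra]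
      rw [hy']; ring)
  have hdvd : ∀ j, (MvPolynomial.X e : MvPolynomial σ k) ∣ p 0 j := by
    intro j
    have h2 := hp' j
    simp only [Fin.sum_univ_two, Matrix.cons_val_zero, Matrix.cons_val_one] at h2
    have h3 : (MvPolynomial.X e : MvPolynomial σ k) ∣ MvPolynomial.X e' * p 0 j :=
      ⟨p 1 j, by linear_combination h2⟩
    exact ((MvPolynomial.X_prime (i := e)).dvd_or_dvd h3).resolve_left fun h4 =>
      hne (MvPolynomial.X_dvd_X.mp h4)
  have h0 := hp 0
  simp only [Matrix.cons_val_zero] at h0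
  rw [h0]
  refine Finset.dvd_sum fun j _ => ?_
  rw [Algebra.smul_def, RingHom.algebraMap_toAlgebra]
  exact Dvd.dvd.mul_right (map_dvd ψ (hdvd j)) _

/-- a product of radical elements which are pairwise a regular sequence is radical -/
theorem prod_radical {ι : Type*} (a : ι → B) (h1 : ∀ l (x : B) (n : ℕ), a l ∣ x ^ n → a l ∣ x)
    (h2 : ∀ l l', l ≠ l' → ∀ y : B, a l ∣ a l' * y → a l ∣ y) (S : Finset ι) (x : B) (n : ℕ)
    (h : (∏ l ∈ S, a l) ∣ x ^ n) : (∏ l ∈ S, a l) ∣ x := by
  classical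
  have key : ∀ (T : Finset ι) l, l ∉ T → ∀ y : B, a l ∣ (∏ l' ∈ T, a l') * y → a l ∣ y := by
    intro T l
    induction T using Finset.induction_on with
    | empty => intro _ y hy; simpa using hy
    | @insert c T hc ih =>
      intro hl y hy
      rw [Finset.mem_insert, not_or] at hl
      rw [Finset.prod_insert hc, mul_assoc] at hy
      exact ih hl.2 y (h2 l c hl.1 _ hy)
  induction S using Finset.induction_on with
  | empty => simp
  | @insert c T hc ih =>
    rw [Finset.prod_insert hc] at h ⊢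
    obtain ⟨y, rfl⟩ := ih ((dvd_mul_left _ _).trans h)
    obtain ⟨z, rfl⟩ := key T c hc y (h1 c _ n ((dvd_mul_right _ _).trans h))
    exact ⟨z, by ring⟩

end Radical

variable {k : Type u} [Field k] {X Y : Scheme.{u}} [IsIntegral X]
  (f : X ⟶ Spec (CommRingCat.of k)) [Smooth f]

omit [IsIntegral X] [Smooth f] in
/-- Equations of the components near a point: each is a coordinate of an étale chart or `1`. -/
theorem exists_chart {r : ℕ} (D : Fin r → X.IdealSheafData) (hD : LogNCD.IsNCD D f) (x : X) :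
    ∃ W : X.Opens, x ∈ W ∧ ∀ U : X.affineOpens, U.1 ≤ W → ∃ a : Fin r → Γ(X, U.1),
      (∀ j, (D j).ideal U = Ideal.span {a j}) ∧ (Nontrivial Γ(X, U.1) → ∀ j, a j ≠ 0) ∧
      ∀ (S : Finset (Fin r)) (y : Γ(X, U.1)) (n : ℕ), (∏ l ∈ S, a l) ∣ y ^ n → (∏ l ∈ S, a l) ∣ y := by
  classical
  by_cases hx : Nonempty (LogNCD.Through D x)
  · obtain ⟨W, hxW, n, v, e, hinj, het, hthrough, hmiss⟩ := hD x hx
    refine ⟨W, hxW, fun U hU => ?_⟩
    set ψ := CycNCD.chartHom f W v U hU
    have hψ : ψ.Etale := CycNCD.chartHom_etale f W v het U hU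
    let a : Fin r → Γ(X, U.1) := fun j => if h : x ∈ (D j).support then
      ψ (MvPolynomial.X (ULift.up (e ⟨j, h⟩))) else 1
    refine ⟨a, fun j => ?_, fun hnt j => ?_, fun S y m => prod_radical a (fun l z p hz => ?_)
      (fun l l' hll z hz => ?_) S y m⟩
    · by_cases hj : x ∈ (D j).support
      · simp only [a, dif_pos hj, ψ, CycNCD.chartHom, MvPolynomial.eval₂Hom_X']
        exact hthrough ⟨j, hj⟩ U hU
      · simp only [a, dif_neg hj, Ideal.span_singleton_one]
        exact hmiss j hj U hU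
    · by_cases hj : x ∈ (D j).support
      · simp only [a, dif_pos hj]
        exact ne_zero_of_etale ψ hψ _
      · simp only [a, dif_neg hj]
        exact one_ne_zero
    · by_cases hl : x ∈ (D l).support
      · simp only [a, dif_pos hl] at hz ⊢
        rw [← Ideal.mem_span_singleton] at hz ⊢
        exact CycNCD.isRadical_span_of_etale ψ hψ _ ⟨p, hz⟩
      · simp only [a, dif_neg hl]
        exact one_dvd _
    · by_cases hl : x ∈ (D l).support
      · by_cases hl' : x ∈ (D l').support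
        · simp only [a, dif_pos hl, dif_pos hl'] at hz ⊢
          refine dvd_of_dvd_mul_of_etale ψ hψ (fun h => hll ?_) hz
          exact congrArg Subtype.val (hinj (ULift.up_injective h))
        · simp only [a, dif_neg hl', one_mul] at hz
          exact hz
      · simp only [a, dif_neg hl]
        exact one_dvd _
  · have hout : ∀ j, x ∉ (D j).support := fun j hj => hx ⟨⟨j, hj⟩⟩
    let W : X.Opens := ⟨_, isOpen_iInter_of_finite fun j => (D j).support.isClosed.isOpen_compl⟩
    refine ⟨W, Set.mem_iInter.mpr hout, fun U hU => ⟨fun _ => 1, fun j => ?_, fun _ _ => one_ne_zero,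
      fun S y m _ => by simp⟩⟩
    rw [Ideal.span_singleton_one]
    exact Base.ideal_eq_top_of_disjoint _ U
      (Set.disjoint_left.mpr fun z hz hz' => Set.mem_iInter.mp (hU hz) j hz')

variable {L : X.Modules} {N : ℕ} {s : Coh.structureModule X ⟶ CohB1.tensorPow L N} {π : Y ⟶ X}
  (R : CycCov.Root L N s π)

set_option maxHeartbeats 1600000 in
include f in
/-- The functions on the cover over an affine open where the components have equations `a l`. The set-up is
that of `H95.CycCover.Local.main`. -/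
theorem local_basis [IsAlgClosed k] (hN : 0 < N) (hNk : (N : k) ≠ 0) (hR : CycCov.IsCover R)
    (U : X.affineOpens) [Nonempty U.1] {e : Γ(L, U.1)} (he : IsGen L U.1 e) {r : ℕ}
    (a : Fin r → Γ(X, U.1)) (u₀ : Γ(X, U.1)ˣ) (α : Fin r → ℕ)
    (hφ : SecTwist.val s U.1 = ((u₀ : Γ(X, U.1)) * ∏ l, a l ^ α l) • CycCov.lpow L U.1 e N)
    (ha : ∀ l, a l ≠ 0)
    (hred : ∀ (S : Finset (Fin r)) (y : Γ(X, U.1)) (n : ℕ),
      (∏ l ∈ S, a l) ∣ y ^ n → (∏ l ∈ S, a l) ∣ y) :
    ∃ ε : Fin N → Γ(Y, π ⁻¹ᵁ U.1),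
      (∀ i : Fin N, (π.app U.1).hom (∏ l, a l ^ ((i : ℕ) * α l / N)) * ε i =
        R.t U e (Frames.cycIsGen he) ^ (i : ℕ)) ∧
      Function.Bijective fun c : Fin N → Γ(X, U.1) => ∑ i, (π.app U.1).hom (c i) * ε i := by
  classical
  haveI := hR.1
  obtain ⟨W₀, hW₀, hW₀', hchart⟩ := hR.2.2
  haveI : IsReduced Y := by
    haveI : ∀ y : Y, _root_.IsReduced (Y.presheaf.stalk y) := fun y =>
      haveI := (hR.2.1 y).1
      inferInstance
    exact isReduced_of_isReduced_stalk Y
  let B := Γ(X, U.1)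
  let A := Γ(Y, π ⁻¹ᵁ U.1)
  letI : Algebra B A := (π.app U.1).hom.toAlgebra
  haveI : Module.Finite B A := π.finite_app U.1 U.2
  haveI : IsNoetherianRing B := Base.isNoetherianRing f U
  haveI : IsDomain B := inferInstanceAs (IsDomain Γ(X, U.1))
  haveI : IsIntegrallyClosed B := Base.isIntegrallyClosed f U
  let κ : k →+* B :=
    ((X.presheaf.map (homOfLE (le_top : U.1 ≤ ⊤)).op).hom.comp f.appTop.hom).comp
      (Scheme.ΓSpecIso (CommRingCat.of k)).inv.hom
  have hNu : IsUnit (N : B) := by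
    rw [← map_natCast κ]; exact (isUnit_iff_ne_zero.mpr hNk).map κ
  haveI : NeZero (N : k) := ⟨hNk⟩
  obtain ⟨ζ₀, hζ₀⟩ := HasEnoughRootsOfUnity.exists_primitiveRoot k N
  have hζ : IsPrimitiveRoot (κ ζ₀) N := hζ₀.map_of_injective κ.injective
  set φ : B := (u₀ : B) * ∏ l, a l ^ α l with hφdef
  set A₀ : B := ∏ l, a l with hA₀
  have hA₀0 : A₀ ≠ 0 := Finset.prod_ne_zero_iff.mpr fun l _ => ha l
  -- a basic open inside the good locus
  obtain ⟨x, hxU, hxW⟩ : ∃ x, x ∈ (U.1 : Set X) ∧ x ∈ (W₀ : Set X) := by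
    obtain ⟨⟨p, hp⟩⟩ := ‹Nonempty U.1›
    obtain ⟨x, h1, h2⟩ := hW₀.inter_open_nonempty _ U.1.2 ⟨p, hp⟩
    exact ⟨x, h1, h2⟩
  obtain ⟨g₀, hg₀W, hxg₀⟩ := U.2.exists_basicOpen_le (V := U.1 ⊓ W₀) ⟨x, hxU, hxW⟩ hxU
  have hne : ∀ b : B, b ≠ 0 → X.basicOpen b ≠ ⊥ := fun b hb h => hb (eq_zero_of_basicOpen_eq_bot b h)
  have hg₀ : g₀ ≠ 0 := by
    rintro rfl
    rw [Scheme.basicOpen_zero] at hxg₀
    exact hxg₀
  set g := A₀ * g₀ with hgdef
  have hg : g ≠ 0 := mul_ne_zero hA₀0 hg₀
  let V : X.affineOpens := X.affineBasicOpen g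
  have hVU : V.1 ≤ U.1 := X.basicOpen_le g
  have hVW : V.1 ≤ W₀ := by
    show X.basicOpen g ≤ W₀
    rw [hgdef, Scheme.basicOpen_mul]
    exact inf_le_right.trans (hg₀W.trans inf_le_right)
  let B' := Γ(X, V.1)
  letI : Algebra B B' := (X.presheaf.map (homOfLE hVU).op).hom.toAlgebra
  haveI : IsLocalization.Away g B' := U.2.isLocalization_basicOpen g
  let φ' : B' := algebraMap B B' φ
  have heV : CycCov.IsGen L V.1 (rs L hVU e) := Frames.cycIsGen (he.res hVU)
  have hφV : SecTwist.val s V.1 = φ' • CycCov.lpow L V.1 (rs L hVU e) N :=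
    Frames.phi_res s hVU e φ hφ
  have hbij := hchart V hVW (rs L hVU e) heV φ' hφV
  let ch := CycCov.chart R V (rs L hVU e) heV φ' hφV
  let chE := RingEquiv.ofBijective ch hbij
  let res : A →+* Γ(Y, π ⁻¹ᵁ V.1) := (Y.presheaf.map (homOfLE (π.preimage_mono hVU)).op).hom
  have hnat : ∀ b : B, res ((π.app U.1).hom b) = (π.app V.1).hom (algebraMap B B' b) := fun b =>
    (congr($(π.naturality (homOfLE hVU).op) b)).symm
  let ι : A →ₐ[B] AdjoinRoot (Polynomial.X ^ N - Polynomial.C φ' : Polynomial B') :=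
    { toRingHom := chE.symm.toRingHom.comp res
      commutes' := fun b => by
        show chE.symm (res ((π.app U.1).hom b)) = _
        rw [hnat, RingEquiv.symm_apply_eq]
        show (π.app V.1).hom (algebraMap B B' b) = ch (algebraMap B _ b)
        rw [IsScalarTower.algebraMap_apply B B' _ b]
        exact (AdjoinRoot.lift_of _).symm }
  have hιt : ι (R.t U e (Frames.cycIsGen he)) = AdjoinRoot.root _ := by
    show chE.symm (res (R.t U e _)) = _
    rw [RingEquiv.symm_apply_eq]
    show res (R.t U e _) = ch (AdjoinRoot.root _)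
    refine (R.t_res U V hVU e (Frames.cycIsGen he) heV).trans ?_
    exact (AdjoinRoot.lift_root _).symm
  have hres : Function.Injective res := by
    refine (injective_iff_map_eq_zero res).2 fun z hz => ?_
    have haff : IsAffineOpen (π ⁻¹ᵁ U.1) := U.2.preimage π
    have hpre : π ⁻¹ᵁ V.1 = Y.basicOpen ((π.app U.1).hom g) := π.preimage_basicOpen g
    obtain ⟨m, hm⟩ : ∃ m : ℕ, (π.app U.1).hom g ^ m * z = 0 := by
      haveI := haff.isLocalization_basicOpen ((π.app U.1).hom g)
      have hz' : algebraMap A Γ(Y, Y.basicOpen ((π.app U.1).hom g)) z = 0 := by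
        have h2 := congrArg (Y.presheaf.map (eqToHom hpre.symm).op).hom hz
        rw [map_zero] at h2
        rw [← h2]
        show (Y.presheaf.map _) z = (Y.presheaf.map _ ≫ Y.presheaf.map _) z
        erw [← Functor.map_comp]
        rfl
      obtain ⟨⟨_, m, rfl⟩, hm⟩ :=
        (IsLocalization.map_eq_zero_iff (Submonoid.powers ((π.app U.1).hom g)) _ z).mp hz'
      exact ⟨m, hm⟩
    refine eq_zero_of_basicOpen_eq_bot z (le_bot_iff.mp fun y hy => ?_)
    exfalso
    obtain ⟨y', hy', hyW⟩ := hW₀'.inter_open_nonempty _ (Y.basicOpen z).2 ⟨y, hy⟩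
    have hy'U : π y' ∈ U.1 := Y.basicOpen_le z hy'
    obtain ⟨h, hhW, hxh⟩ := U.2.exists_basicOpen_le (V := U.1 ⊓ W₀) ⟨π y', hy'U, hyW⟩ hy'U
    let H : X.affineOpens := X.affineBasicOpen h
    have hHU : H.1 ≤ U.1 := X.basicOpen_le h
    letI : Algebra B Γ(X, H.1) := (X.presheaf.map (homOfLE hHU).op).hom.toAlgebra
    haveI : IsLocalization.Away h Γ(X, H.1) := U.2.isLocalization_basicOpen h
    haveI : Nonempty H.1 := ⟨⟨π y', hxh⟩⟩
    haveI : IsDomain Γ(X, H.1) := inferInstance
    let φH : Γ(X, H.1) := algebraMap B _ φ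
    have heH : CycCov.IsGen L H.1 (rs L hHU e) := Frames.cycIsGen (he.res hHU)
    have hφH : SecTwist.val s H.1 = φH • CycCov.lpow L H.1 (rs L hHU e) N :=
      Frames.phi_res s hHU e φ hφ
    have hbH := hchart H (hhW.trans inf_le_right) (rs L hHU e) heH φH hφH
    let zH := (Y.presheaf.map (homOfLE (π.preimage_mono hHU)).op).hom z
    have hzH : zH = 0 := by
      obtain ⟨q, hq⟩ := hbH.2 zH
      obtain ⟨c, hc⟩ := CycAlg.Cover.exists_coord hN φH q
      have hgH : algebraMap B Γ(X, H.1) g ≠ 0 := fun h0 => hg <| by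
        refine CycAlg.Cover.inj_away (g := h) (B' := Γ(X, H.1)) ?_ (h0.trans (map_zero _).symm)
        rintro rfl
        rw [Scheme.basicOpen_zero] at hxh
        exact hxh
      have h3 : algebraMap Γ(X, H.1) (AdjoinRoot (Polynomial.X ^ N - Polynomial.C φH : Polynomial Γ(X, H.1)))
          (algebraMap B Γ(X, H.1) g ^ m) * q = 0 := by
        refine hbH.1 ?_
        rw [map_mul, map_zero, hq]
        have h4 := congrArg (Y.presheaf.map (homOfLE (π.preimage_mono hHU)).op).hom hm
        rw [map_zero, map_mul, map_pow] at h4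
        rw [← h4]
        congr 1
        rw [map_pow, map_pow]
        congr 1
        exact (AdjoinRoot.lift_of _).trans (congr($(π.naturality (homOfLE hHU).op) g))
      rw [hc, Finset.mul_sum] at h3
      have h5 := CycAlg.Cover.coord_eq_zero hN φH (fun j => algebraMap B Γ(X, H.1) g ^ m * c j) (by
        rw [← h3]; exact Finset.sum_congr rfl fun j _ => by rw [map_mul, mul_assoc])
      have hc0 : c = 0 := funext fun j =>
        (mul_eq_zero.mp (congrFun h5 j)).resolve_left (pow_ne_zero _ hgH)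
      rw [← hq, hc, hc0]
      simp
    have h6 : y' ∈ Y.basicOpen zH := by
      rw [Scheme.basicOpen_res]
      exact ⟨hxh, hy'⟩
    rw [hzH, Scheme.basicOpen_zero] at h6
    exact h6
  have hι : Function.Injective ι := chE.symm.injective.comp hres
  have hnorm : ∀ (Q : Ideal A) [Q.IsMaximal], IsDomain (Localization.AtPrime Q) ∧
      IsIntegrallyClosed (Localization.AtPrime Q) := by
    intro Q _
    have haff : IsAffineOpen (π ⁻¹ᵁ U.1) := U.2.preimage π
    let p : PrimeSpectrum A := ⟨Q, inferInstance⟩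
    have hy : haff.fromSpec p ∈ π ⁻¹ᵁ U.1 := by
      have h : haff.fromSpec p ∈ Set.range haff.fromSpec := ⟨p, rfl⟩
      rwa [haff.range_fromSpec] at h
    letI := Y.presheaf.algebra_section_stalk ⟨haff.fromSpec p, hy⟩
    haveI : IsLocalization.AtPrime (Y.presheaf.stalk (haff.fromSpec p)) Q :=
      haff.isLocalization_stalk' p hy
    let E := (IsLocalization.algEquiv Q.primeCompl (Y.presheaf.stalk (haff.fromSpec p))
      (Localization.AtPrime Q)).toRingEquiv
    obtain ⟨h1, h2⟩ := hR.2.1 (haff.fromSpec p)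
    exact ⟨E.symm.injective.isDomain E.symm.toRingHom, IsIntegrallyClosed.of_equiv E⟩
  exact exists_basis (B' := B') (g := g) φ a u₀ α rfl hg
    (fun l => (Finset.dvd_prod_of_mem a (Finset.mem_univ l)).trans ⟨g₀, rfl⟩) hN hζ hNu hred hnorm
    (R.t U e (Frames.cycIsGen he)) ι hι hιt

end Groth.Agent.H12.CycPush
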